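import Mathlib

/-!
# Cutting a closed point of a fibre down to a finite set
-/

set_option autoImplicit false

noncomputable section

universe u

open MvPolynomial TensorProduct

namespace Groth.Agent.QuasiSec

variable {R : Type u} [CommRing R] {n : ℕ}

/-- The common zeros of nonzero polynomials in the separate generators are finite in number. -/
theorem finite_zeroLocus_of_roots {κ F : Type u} [Field κ] [CommRing F] [Algebra κ F] (y : Fin n → F)
    (hy : Algebra.adjoin κ (Set.range y) = ⊤) (P : Fin n → Polynomial κ) (hP : ∀ i, P i ≠ 0) :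
    (PrimeSpectrum.zeroLocus (Set.range fun i => Polynomial.aeval (y i) (P i))).Finite := by
  let J : Ideal F := Ideal.span (Set.range fun i => Polynomial.aeval (y i) (P i))
  let π : F →ₐ[κ] F ⧸ J := Ideal.Quotient.mkₐ κ J
  have hint : ∀ x ∈ π '' Set.range y, IsIntegral κ x := by
    rintro _ ⟨_, ⟨i, rfl⟩, rfl⟩
    refine IsAlgebraic.isIntegral ⟨P i, hP i, ?_⟩
    rw [Polynomial.aeval_algHom_apply]
    exact Ideal.Quotient.eq_zero_iff_mem.mpr (Ideal.subset_span ⟨i, rfl⟩)
  have htop : Algebra.adjoin κ (π '' Set.range y) = ⊤ := by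
    rw [← AlgHom.map_adjoin, hy, Algebra.map_top, AlgHom.range_eq_top]
    exact Ideal.Quotient.mk_surjective
  have : Module.Finite κ (F ⧸ J) := by
    constructor
    have := fg_adjoin_of_finite ((Set.finite_range y).image π) hint
    rwa [htop, Algebra.top_toSubmodule] at this
  have : IsArtinianRing (F ⧸ J) := IsArtinianRing.of_finite κ (F ⧸ J)
  rw [← PrimeSpectrum.zeroLocus_span, show Ideal.span (Set.range fun i => Polynomial.aeval (y i) (P i)) = RingHom.ker (Ideal.Quotient.mk J) from Ideal.mk_ker.symm,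
    ← _root_.range_comap_of_surjective (F ⧸ J) (Ideal.Quotient.mk J) Ideal.Quotient.mk_surjective]
  exact Set.finite_range _

/-- Only finitely many primes over a given one contain given polynomials in the separate variables. -/
theorem finite_primes_of_nonzero (p : PrimeSpectrum R) (P : Fin n → Polynomial R)
    (hP : ∀ i, (P i).map (algebraMap R p.asIdeal.ResidueField) ≠ 0) :
    {W : PrimeSpectrum (MvPolynomial (Fin n) R) | PrimeSpectrum.comap C W = p ∧
      ∀ i, Polynomial.aeval (X i : MvPolynomial (Fin n) R) (P i) ∈ W.asIdeal}.Finite := by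
  let κ := p.asIdeal.ResidueField
  let A := MvPolynomial (Fin n) R
  let F := p.asIdeal.Fiber A
  let fι : A →ₐ[R] F := Algebra.TensorProduct.includeRight
  let H := PrimeSpectrum.preimageHomeomorphFiber R A p
  have hy : Algebra.adjoin κ (Set.range fun i => fι (X i)) = ⊤ := by
    refine Algebra.eq_top_iff.mpr fun z => ?_
    induction z using TensorProduct.induction_on with
    | zero => exact zero_mem _
    | add a b ha hb => exact add_mem ha hb
    | tmul a m =>
      have e : (a ⊗ₜ[R] m : F) = a • fι m := by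
        show a ⊗ₜ[R] m = a • ((1 : κ) ⊗ₜ[R] m)
        rw [TensorProduct.smul_tmul', smul_eq_mul, mul_one]
      rw [e]
      refine Subalgebra.smul_mem _ ?_ a
      clear e
      induction m using MvPolynomial.induction_on with
      | C r =>
        rw [show fι (C r) = algebraMap R F r from fι.commutes r, IsScalarTower.algebraMap_apply R κ F]
        exact Subalgebra.algebraMap_mem _ _
      | add a b ha hb => rw [map_add]; exact add_mem ha hb
      | mul_X a i ha => rw [map_mul]; exact mul_mem ha (Algebra.subset_adjoin ⟨i, rfl⟩)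
  have hfin := finite_zeroLocus_of_roots (F := F) (fun i => fι (X i)) hy _ hP
  refine ((hfin.image (fun Q => (H.symm Q).1))).subset fun W ⟨hW, hWP⟩ => ?_
  let w : (PrimeSpectrum.comap (algebraMap R A) ⁻¹' {p} : Set _) := ⟨W, hW⟩
  refine ⟨H w, ?_, congrArg Subtype.val (H.symm_apply_apply w)⟩
  rintro _ ⟨i, rfl⟩
  have hc : (H w).asIdeal.comap fι.toRingHom = W.asIdeal :=
    congrArg (fun v => (Subtype.val v).asIdeal) (H.symm_apply_apply w)
  show Polynomial.aeval (fι (X i)) ((P i).map (algebraMap R κ)) ∈ (H w).asIdeal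
  rw [Polynomial.aeval_map_algebraMap, Polynomial.aeval_algHom_apply]
  exact (hc.symm ▸ hWP i : Polynomial.aeval (X i : A) (P i) ∈ (H w).asIdeal.comap fι.toRingHom)

/-- A polynomial over a residue field is, up to a unit, the reduction of a polynomial. -/
theorem exists_lift_residueField (p : Ideal R) [p.IsPrime] (m : Polynomial p.ResidueField) :
    ∃ (P : Polynomial R) (c : p.ResidueField), c ≠ 0 ∧
      P.map (algebraMap R p.ResidueField) = Polynomial.C c * m := by
  obtain ⟨b, hb⟩ := IsLocalization.integerNormalization_map_to_map (nonZeroDivisors (R ⧸ p)) m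
  obtain ⟨P, hP⟩ := Polynomial.map_surjective (Ideal.Quotient.mk p) Ideal.Quotient.mk_surjective
    (IsLocalization.integerNormalization (nonZeroDivisors (R ⧸ p)) m)
  refine ⟨P, algebraMap (R ⧸ p) p.ResidueField b, ?_, ?_⟩
  · exact IsFractionRing.to_map_ne_zero_of_mem_nonZeroDivisors b.2
  · rw [IsScalarTower.algebraMap_eq R (R ⧸ p) p.ResidueField, Ideal.Quotient.algebraMap_eq,
      ← Polynomial.map_map, hP, hb]
    rw [Algebra.smul_def]
    rfl

variable {B : Type u} [CommRing B]

/-- A closed point of a fibre is cut out, up to finitely many points, by as many functions as variables. -/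
theorem exists_cut (φ : MvPolynomial (Fin n) R →+* B) (hft : φ.FiniteType) (hqf : φ.QuasiFinite)
    (q : PrimeSpectrum B) (p : PrimeSpectrum R) (hqp : PrimeSpectrum.comap (φ.comp C) q = p)
    (hmax : ∀ Q : PrimeSpectrum B, PrimeSpectrum.comap (φ.comp C) Q = p → q.asIdeal ≤ Q.asIdeal → Q = q) :
    ∃ h : Fin n → B, (∀ i, h i ∈ q.asIdeal) ∧
      {Q : PrimeSpectrum B | PrimeSpectrum.comap (φ.comp C) Q = p ∧ ∀ i, h i ∈ Q.asIdeal}.Finite := by
  letI : Algebra R B := (φ.comp C).toAlgebra
  have hftB : (φ.comp C).FiniteType :=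
    hft.comp (RingHom.finiteType_algebraMap.mpr (inferInstance : Algebra.FiniteType R (MvPolynomial (Fin n) R)))
  haveI : Algebra.FiniteType R B := hftB
  let κ := p.asIdeal.ResidueField
  let F := p.asIdeal.Fiber B
  let ι : B →+* F := Algebra.TensorProduct.includeRight.toRingHom
  let H := PrimeSpectrum.preimageHomeomorphFiber R B p
  let Q := H ⟨q, hqp⟩
  have hcomap : ∀ Q' : PrimeSpectrum F, ((H.symm Q').1).asIdeal = Q'.asIdeal.comap ι := fun Q' => rfl
  have hQq : Q.asIdeal.comap ι = q.asIdeal := by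
    rw [← hcomap]; exact congrArg (fun v => (Subtype.val v).asIdeal) (H.symm_apply_apply _)
  haveI : Q.asIdeal.IsMaximal := by
    refine ⟨⟨Q.isPrime.ne_top, fun J hJ => ?_⟩⟩
    by_contra hne
    obtain ⟨M, hM, hJM⟩ := J.exists_le_maximal hne
    have h1 : (H.symm ⟨M, hM.isPrime⟩).1 = q := hmax _ (H.symm ⟨M, hM.isPrime⟩).2
      (by rw [hcomap, ← hQq]; exact Ideal.comap_mono (hJ.le.trans hJM))
    have h2 : (⟨M, hM.isPrime⟩ : PrimeSpectrum F) = Q := by
      rw [← H.apply_symm_apply ⟨M, hM.isPrime⟩]
      exact congrArg H (Subtype.ext h1)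
    exact (hJ.trans_le hJM).ne (congrArg PrimeSpectrum.asIdeal h2).symm
  haveI : Algebra.FiniteType κ (F ⧸ Q.asIdeal) := inferInstance
  letI : Field (F ⧸ Q.asIdeal) := Ideal.Quotient.field _
  haveI : Module.Finite κ (F ⧸ Q.asIdeal) := finite_of_finite_type_of_isJacobsonRing κ (F ⧸ Q.asIdeal)
  have hP : ∀ i, ∃ P : Polynomial R, P.map (algebraMap R κ) ≠ 0 ∧
      φ (Polynomial.aeval (X i : MvPolynomial (Fin n) R) P) ∈ q.asIdeal := fun i => by
    let φR : MvPolynomial (Fin n) R →ₐ[R] B := { φ with commutes' := fun r => rfl }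
    let t : F ⧸ Q.asIdeal := Ideal.Quotient.mk _ (ι (φ (X i)))
    obtain ⟨P, c, hc, hP⟩ := exists_lift_residueField p.asIdeal (minpoly κ t)
    refine ⟨P, ?_, ?_⟩
    · rw [hP]
      exact mul_ne_zero (Polynomial.C_ne_zero.mpr hc) (minpoly.ne_zero (Algebra.IsIntegral.isIntegral t))
    · have h0 : Polynomial.aeval t (P.map (algebraMap R κ)) = 0 := by
        rw [hP, map_mul, minpoly.aeval, mul_zero]
      rw [← hQq, Ideal.mem_comap, ← Ideal.Quotient.eq_zero_iff_mem, ← h0, Polynomial.aeval_map_algebraMap]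
      exact (Polynomial.aeval_algHom_apply
        ((((Ideal.Quotient.mkₐ κ Q.asIdeal).restrictScalars R).comp Algebra.TensorProduct.includeRight).comp φR)
        (X i : MvPolynomial (Fin n) R) P).symm
  choose P hP0 hPq using hP
  refine ⟨fun i => φ (Polynomial.aeval (X i : MvPolynomial (Fin n) R) (P i)), hPq, ?_⟩
  letI : Algebra (MvPolynomial (Fin n) R) B := φ.toAlgebra
  haveI : Algebra.QuasiFinite (MvPolynomial (Fin n) R) B := hqf
  refine ((finite_primes_of_nonzero p P hP0).preimage' (f := PrimeSpectrum.comap φ) fun W _ => ?_).subset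
    (fun Q' ⟨hQ', hQ'P⟩ => ⟨hQ', hQ'P⟩)
  exact Algebra.QuasiFinite.finite_comap_preimage_singleton W

end Groth.Agent.QuasiSec
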