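import Mathlib
import Groth.Prelude.Def_EGA43
import Groth.Agent.S1353
import Groth.Agent.EtLocLib.Unram

/-!
# A finite surjective piece around a quasi-finite point of universal openness
-/

set_option autoImplicit false

noncomputable section

universe u

open CategoryTheory Limits AlgebraicGeometry Topology TopologicalSpace

namespace Groth.Agent.QuasiSec

/-- Closed immersions do not change residue fields. -/
theorem isIso_residueFieldMap {X Y : Scheme.{u}} (f : X ⟶ Y) [IsClosedImmersion f] (x : X) :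
    IsIso (f.residueFieldMap x) := by
  refine (ConcreteCategory.isIso_iff_bijective _).mpr ⟨RingHom.injective _, fun a => ?_⟩
  obtain ⟨a, rfl⟩ := IsLocalRing.residue_surjective a
  obtain ⟨b, rfl⟩ := f.stalkMap_surjective x a
  exact ⟨IsLocalRing.residue _ b, rfl⟩

/-- Over an affine etale neighbourhood, a quasi-finite point at which the map is universally open lies
in a finite surjective piece, alone over the base point. -/
theorem exists_finite_surj_nbhd {T S : Scheme.{u}} (τ : T ⟶ S) [LocallyOfFinitePresentation τ] (t : T)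
    (hqf : τ.QuasiFiniteAt t) (hopen : EGA43.IsUnivOpenAt τ t) :
    ∃ (S' S'' : Scheme.{u}) (_ : IsAffine S') (w : S' ⟶ S) (π : S'' ⟶ S') (j : S'' ⟶ T),
      Etale w ∧ IsFinite π ∧ Surjective π ∧ LocallyOfFinitePresentation π ∧ j ≫ τ = π ≫ w ∧
      ∃ s'' : S'', (π ≫ w).base ⁻¹' {τ.base t} = {s''} ∧ j.base s'' = t ∧
        IsIso (j.residueFieldMap s'') := by
  obtain ⟨U, g, u₀, ⟨hg, hgu, -⟩, V, v, hvV, hfin, hvu, huniq, hvt, hres⟩ := S1353.result τ t hqf
  haveI := hg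
  haveI := hfin
  haveI : LocallyQuasiFinite g := EtLocLib.locallyQuasiFinite g
  haveI : LocallyOfFinitePresentation (pullback.snd τ g) := MorphismProperty.pullback_snd _ _ inferInstance
  have himg : (pullback.snd τ g).base '' (V : Set ↑(pullback τ g)) ∈ 𝓝 u₀ :=
    hvu ▸ hopen U g v hvt _ (V.isOpen.mem_nhds hvV)
  obtain ⟨N, hN, hNu⟩ : ∃ N : Set U, IsOpen N ∧ N ∩ g.base ⁻¹' {τ.base t} = {u₀} := by
    have hd := g.isDiscrete_preimage_singleton (τ.base t)
    rw [isDiscrete_iff_discreteTopology] at hd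
    obtain ⟨N, hN, hNu⟩ := isOpen_induced_iff.mp (isOpen_discrete
      ({⟨u₀, hgu⟩} : Set ↥(g.base ⁻¹' {τ.base t})))
    refine ⟨N, hN, Set.ext fun a => ⟨fun ⟨ha, has⟩ => ?_, ?_⟩⟩
    · have : (⟨a, has⟩ : ↥(g.base ⁻¹' {τ.base t})) ∈ Subtype.val ⁻¹' N := ha
      rw [hNu] at this
      exact congrArg Subtype.val (Set.mem_singleton_iff.mp this)
    · rintro rfl
      have : (⟨a, hgu⟩ : ↥(g.base ⁻¹' {τ.base t})) ∈ Subtype.val ⁻¹' N := hNu ▸ rfl
      exact ⟨this, hgu⟩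
  have hu₀N : u₀ ∈ N := (hNu.ge rfl).1
  obtain ⟨_, ⟨W, hW, rfl⟩, huW, hWsub⟩ := U.isBasis_affineOpens.exists_subset_of_mem_open
    (show u₀ ∈ interior ((pullback.snd τ g).base '' (V : Set ↑(pullback τ g))) ∩ N from
      ⟨mem_interior_iff_mem_nhds.mpr himg, hu₀N⟩) (isOpen_interior.inter hN)
  let W : U.Opens := W
  have hW : IsAffineOpen W := hW
  let π₀ : V.toScheme ⟶ U := V.ι ≫ pullback.snd τ g
  let j : (π₀ ⁻¹ᵁ W).toScheme ⟶ T := (π₀ ⁻¹ᵁ W).ι ≫ V.ι ≫ pullback.fst τ g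
  have hπ : π₀ ∣_ W ≫ W.ι = (π₀ ⁻¹ᵁ W).ι ≫ π₀ := morphismRestrict_ι _ _
  have hpt : ∀ y : (π₀ ⁻¹ᵁ W).toScheme, (π₀ ∣_ W ≫ W.ι ≫ g).base y = g.base (π₀.base y.1) := fun y => by
    rw [← Category.assoc, hπ, Scheme.Hom.comp_apply, Scheme.Hom.comp_apply]
    rfl
  let s'' : (π₀ ⁻¹ᵁ W).toScheme := ⟨⟨v, hvV⟩, show π₀.base ⟨v, hvV⟩ ∈ W by
    rw [Scheme.Hom.comp_apply]
    exact hvu.symm ▸ huW⟩
  refine ⟨W.toScheme, (π₀ ⁻¹ᵁ W).toScheme, hW, W.ι ≫ g, π₀ ∣_ W, j, inferInstance,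
    IsZariskiLocalAtTarget.restrict hfin W, ⟨fun a => ?_⟩, IsZariskiLocalAtTarget.restrict (P := @LocallyOfFinitePresentation)
      (inferInstanceAs (LocallyOfFinitePresentation (V.ι ≫ pullback.snd τ g))) W, ?_,
    s'', ?_, ?_, ?_⟩
  · obtain ⟨b, hb, hba⟩ := interior_subset (hWsub a.2).1
    refine ⟨⟨⟨b, hb⟩, show π₀.base ⟨b, hb⟩ ∈ W by rw [Scheme.Hom.comp_apply]; exact hba.symm ▸ a.2⟩, ?_⟩
    refine Subtype.ext ?_
    rw [morphismRestrict_base]
    exact hba
  · rw [← Category.assoc (π₀ ∣_ W), hπ]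
    simp only [j, π₀, Category.assoc, pullback.condition]
  · refine Set.Subset.antisymm (fun y hy => ?_) (Set.singleton_subset_iff.mpr ?_)
    · rw [Set.mem_preimage, hpt y, Set.mem_singleton_iff] at hy
      have h1 : π₀.base y.1 = u₀ := by
        have : π₀.base y.1 ∈ N ∩ g.base ⁻¹' {τ.base t} := ⟨(hWsub y.2).2, hy⟩
        rwa [hNu] at this
      have h2 := huniq y.1.1 y.1.2 ((Scheme.Hom.comp_apply V.ι (pullback.snd τ g) y.1).symm.trans h1)
      exact Subtype.ext (Subtype.ext h2)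
    · rw [Set.mem_preimage, hpt, Set.mem_singleton_iff]
      show g.base ((V.ι ≫ pullback.snd τ g).base ⟨v, hvV⟩) = _
      rw [Scheme.Hom.comp_apply]
      exact (congrArg g.base hvu).trans hgu
  · simp only [j, Scheme.Hom.comp_apply]
    exact hvt
  · haveI : IsIso ((pullback.fst τ g).residueFieldMap v) := (ConcreteCategory.isIso_iff_bijective _).mpr hres
    simp only [j, Scheme.residueFieldMap_comp]
    exact @IsIso.comp_isIso _ _ _ _ _ _ _ (@IsIso.comp_isIso _ _ _ _ _ _ _ this inferInstance) inferInstance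

end Groth.Agent.QuasiSec
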