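import Mathlib
import Groth.Agent.UOpenLib.AffineSpaceOpen
import Groth.Agent.QuasiSecLib.Alg
import Groth.Agent.QuasiSecLib.Nbhd

/-!
# Quasi-sections through closed points of fibres
-/

set_option autoImplicit false

noncomputable section

universe u

open CategoryTheory Limits AlgebraicGeometry Topology TopologicalSpace MvPolynomial

namespace Groth.Agent.QuasiSec

/-- Evaluation at the origin. -/
def ev0 (R : Type u) [CommRing R] (n : ℕ) : MvPolynomial (Fin n) R →+* R :=
  MvPolynomial.eval (fun _ => 0)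

theorem ev0_comp_C (R : Type u) [CommRing R] (n : ℕ) : (ev0 R n).comp C = RingHom.id R :=
  RingHom.ext fun r => MvPolynomial.eval_C r

theorem ev0_surjective (R : Type u) [CommRing R] (n : ℕ) : Function.Surjective (ev0 R n) :=
  fun r => ⟨C r, MvPolynomial.eval_C r⟩

/-- A prime containing all variables is determined by its contraction to the constants. -/
theorem mem_iff_ev0 {R : Type u} [CommRing R] {n : ℕ} {I : Ideal (MvPolynomial (Fin n) R)}
    (h : ∀ i, (X i : MvPolynomial (Fin n) R) ∈ I) (P : MvPolynomial (Fin n) R) :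
    P ∈ I ↔ C (ev0 R n P) ∈ I := by
  have : P - C (ev0 R n P) ∈ I := by
    induction P using MvPolynomial.induction_on with
    | C r => rw [show ev0 R n (C r) = r from MvPolynomial.eval_C r, sub_self]; exact zero_mem _
    | add a b ha hb =>
      rw [map_add, map_add, add_sub_add_comm]; exact add_mem ha hb
    | mul_X a i ha =>
      have h0 : ev0 R n (a * X i) = 0 := by simp [ev0]
      rw [h0, map_zero, sub_zero]
      exact I.mul_mem_left a (h i)
  refine ⟨fun hP => ?_, fun hC => ?_⟩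
  · simpa using sub_mem hP this
  · simpa using add_mem this hC

/-- Open immersions do not change residue fields. -/
theorem isIso_residueFieldMap' {X Y : Scheme.{u}} (f : X ⟶ Y) [IsOpenImmersion f] (x : X) :
    IsIso (f.residueFieldMap x) := inferInstance

/-- A map to affine space near a closed point of a fibre, quasi-finite, with the point over the origin. -/
theorem exists_qf_origin_chart {X S : Scheme.{u}} (f : X ⟶ S) [LocallyOfFiniteType f] (x : X)
    (hcl : ∀ x' : X, f.base x' = f.base x → x ⤳ x' → x' = x) {V : S.Opens} (hV : IsAffineOpen V)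
    (hxV : f.base x ∈ V) (d : ℕ) (hd : FlatMor.fibreDimAt f x = d) :
    ∃ (U : X.Opens) (hU : IsAffineOpen U) (hxU : x ∈ U) (e : U ≤ f ⁻¹ᵁ V)
      (ψ : MvPolynomial (Fin d) Γ(S, V) →+* Γ(X, U)),
      ψ.comp C = (f.appLE V U e).hom ∧ ψ.QuasiFinite ∧
      ∀ i, ψ (MvPolynomial.X i) ∈ (hU.primeIdealOf ⟨x, hxU⟩).asIdeal := by
  obtain ⟨U, hU, hxU, e, φ, hφ, hft, hqf⟩ := FibDimLib.exists_qf_affine_nhd f x hV hxV d hd
  let q := hU.primeIdealOf ⟨x, hxU⟩
  let p := hV.primeIdealOf ⟨f.base x, hxV⟩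
  have hqp : PrimeSpectrum.comap (φ.comp C) q = p := UOpenLib.comap_primeIdealOf f hV hU e φ hφ x hxU
  obtain ⟨h, hh, hfin⟩ := exists_cut φ hft hqf q p hqp (fun Q hQ hle => by
    obtain ⟨w, hw, rfl⟩ := UOpenLib.exists_point_of_prime hU Q
    have hgw : f.base w = f.base x := by
      rw [UOpenLib.comap_primeIdealOf f hV hU e φ hφ w hw] at hQ
      have := congrArg hV.fromSpec.base hQ
      rwa [hV.fromSpec_primeIdealOf, hV.fromSpec_primeIdealOf] at this
    have := hcl w hgw ((UOpenLib.primeIdealOf_le_iff hU hxU hw).mp hle)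
    subst this
    rfl)
  let ψ : MvPolynomial (Fin d) Γ(S, V) →+* Γ(X, U) := eval₂Hom (φ.comp C) h
  have hψC : ψ.comp C = φ.comp C := RingHom.ext fun r => eval₂Hom_C _ _ _
  have hψX : ∀ i, ψ (MvPolynomial.X i) = h i := fun i => eval₂Hom_X' _ _ _
  let v : Spec Γ(X, U) ⟶ Spec (CommRingCat.of (MvPolynomial (Fin d) Γ(S, V))) := Spec.map (CommRingCat.ofHom ψ)
  have hψft : ψ.FiniteType := RingHom.FiniteType.of_comp_finiteType (f := C)
    (hψC.symm ▸ hft.comp (RingHom.finiteType_algebraMap.mpr inferInstance))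
  haveI : LocallyOfFiniteType v := HasRingHomProperty.Spec_iff.mpr hψft
  have hfibre : (v.base ⁻¹' {v.base q}).Finite := hfin.subset fun Q hQ => by
    have e1 : PrimeSpectrum.comap ψ Q = PrimeSpectrum.comap ψ q := hQ
    refine ⟨?_, fun i => ?_⟩
    · rw [← hψC, PrimeSpectrum.comap_comp_apply, e1, ← PrimeSpectrum.comap_comp_apply, hψC, hqp]
    · rw [← hψX]
      exact ((PrimeSpectrum.ext_iff.mp e1) ▸ (hψX i ▸ hh i : ψ (MvPolynomial.X i) ∈ q.asIdeal) :
        MvPolynomial.X i ∈ (PrimeSpectrum.comap ψ Q).asIdeal)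
  have hqfat : v.QuasiFiniteAt q := by
    rw [Scheme.Hom.quasiFiniteAt_iff_isOpen_singleton_asFiber]
    have := UOpenLib.lft_fiberToSpec v (v.base q)
    haveI : JacobsonSpace ↥(v.fiber (v.base q)) := LocallyOfFiniteType.jacobsonSpace (v.fiberToSpecResidueField _)
    haveI : Finite ↥(v.base ⁻¹' {v.base q}) := hfibre.to_subtype
    haveI : Finite ↥(v.fiber (v.base q)) := Finite.of_equiv _ (v.fiberHomeo (v.base q)).symm.toEquiv
    exact isOpen_discrete _
  obtain ⟨_, ⟨_, ⟨g, rfl⟩, rfl⟩, hqg, hgO⟩ := PrimeSpectrum.isBasis_basic_opens.exists_subset_of_mem_open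
    (hqfat : q ∈ (v.quasiFiniteLocus : Set ↥(Spec Γ(X, U)))) v.quasiFiniteLocus.isOpen
  let U' := X.basicOpen g
  have hle : U' ≤ U := X.basicOpen_le g
  let ρ := X.presheaf.map (homOfLE hle).op
  have hxU' : x ∈ U' := by
    have h2 : q ∈ hU.fromSpec ⁻¹ᵁ X.basicOpen g := by
      rw [hU.fromSpec_preimage_basicOpen]; exact hqg
    have h3 : hU.fromSpec.base q ∈ X.basicOpen g := h2
    rw [hU.fromSpec_primeIdealOf ⟨x, hxU⟩] at h3
    exact h3
  have hρ : Spec.map ρ ≫ hU.fromSpec = (hU.basicOpen g).fromSpec :=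
    IsAffineOpen.map_fromSpec hU (hU.basicOpen g) (homOfLE hle).op
  refine ⟨U', hU.basicOpen g, hxU', hle.trans e, ρ.hom.comp ψ, ?_, ?_, fun i => ?_⟩
  · rw [RingHom.comp_assoc, hψC, hφ, ← f.appLE_map e (homOfLE hle).op]
    rfl
  · haveI : IsOpenImmersion (Spec.map ρ) := by
      haveI : IsOpenImmersion (Spec.map ρ ≫ hU.fromSpec) := hρ ▸ inferInstance
      exact IsOpenImmersion.of_comp (Spec.map ρ) hU.fromSpec
    have hrange : Set.range (Spec.map ρ).base ⊆ Set.range v.quasiFiniteLocus.ι.base := by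
      rw [Scheme.Opens.range_ι]
      rintro _ ⟨a, rfl⟩
      refine hgO ?_
      have h2 : (Spec.map ρ).base a ∈ hU.fromSpec ⁻¹ᵁ X.basicOpen g := by
        show hU.fromSpec.base _ ∈ X.basicOpen g
        rw [← Scheme.Hom.comp_apply, hρ]
        exact (hU.basicOpen g).range_fromSpec.le ⟨a, rfl⟩
      rwa [hU.fromSpec_preimage_basicOpen] at h2
    haveI : LocallyQuasiFinite (Spec.map ρ ≫ v) := by
      rw [← IsOpenImmersion.lift_fac v.quasiFiniteLocus.ι (Spec.map ρ) hrange, Category.assoc]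
      infer_instance
    rw [← Spec.map_comp] at this
    exact HasRingHomProperty.Spec_iff.mp this
  · have hq : PrimeSpectrum.comap ρ.hom ((hU.basicOpen g).primeIdealOf ⟨x, hxU'⟩) = q := by
      refine hU.fromSpec.isOpenEmbedding.injective ?_
      show hU.fromSpec.base ((Spec.map ρ).base _) = _
      rw [← Scheme.Hom.comp_apply, hρ, IsAffineOpen.fromSpec_primeIdealOf, IsAffineOpen.fromSpec_primeIdealOf]
    exact (hq.symm ▸ (hψX i ▸ hh i : ψ (MvPolynomial.X i) ∈ q.asIdeal) :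
      ψ (MvPolynomial.X i) ∈ (PrimeSpectrum.comap ρ.hom _).asIdeal)

/-- Quasi-sections through a closed point of a fibre. -/
theorem exists_quasiSection {X S : Scheme.{u}} (f : X ⟶ S) [LocallyOfFinitePresentation f] (x z : X)
    (hcl : ∀ x' : X, f.base x' = f.base x → x ⤳ x' → x' = x)
    (hzx : z ⤳ x) (hzs : f.base z = f.base x) (hopen : EGA43.IsUnivOpenAt f z)
    (hdim : FlatMor.fibreDimAt f x ≤ UOpenLib.fibreClosureDim f z) :
    ∃ (S' S'' : Scheme.{u}) (_ : IsAffine S') (w : S' ⟶ S) (π : S'' ⟶ S') (h : S'' ⟶ X),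
      Etale w ∧ IsFinite π ∧ Surjective π ∧ LocallyOfFinitePresentation π ∧ h ≫ f = π ≫ w ∧
      ∃ s'' : S'', (π ≫ w).base ⁻¹' {f.base x} = {s''} ∧ h.base s'' = x ∧
        IsIso (h.residueFieldMap s'') := by
  obtain ⟨d, hd⟩ := UOpenLib.exists_fibreDimAt_eq_nat f x
  obtain ⟨_, ⟨V, hV, rfl⟩, hxV, -⟩ :=
    S.isBasis_affineOpens.exists_subset_of_mem_open (Set.mem_univ (f.base x)) isOpen_univ
  let V : S.Opens := V
  have hV : IsAffineOpen V := hV
  obtain ⟨U, hU, hxU, e, ψ, hψ, hqf, hX⟩ := exists_qf_origin_chart f x hcl hV hxV d hd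
  let R := Γ(S, V)
  have hzU : z ∈ U := hzx.mem_open U.isOpen hxU
  let qx := hU.primeIdealOf ⟨x, hxU⟩
  let qz := hU.primeIdealOf ⟨z, hzU⟩
  let p := hV.primeIdealOf ⟨f.base x, hxV⟩
  have hxp : PrimeSpectrum.comap (ψ.comp C) qx = p := UOpenLib.comap_primeIdealOf f hV hU e ψ hψ x hxU
  have hgen : qz.asIdeal.comap ψ = p.asIdeal.map C := by
    rw [UOpenLib.comap_eq_of_le_fibreClosureDim f hV hU e ψ hψ hqf hzU (hd ▸ hdim)]
    congr 3
    exact Subtype.ext hzs
  have hfp : (ψ.comp C).FinitePresentation := by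
    rw [hψ]
    exact HasRingHomProperty.appLE @LocallyOfFinitePresentation f inferInstance ⟨V, hV⟩ ⟨U, hU⟩ e
  have hψfp : ψ.FinitePresentation := RingHom.FinitePresentation.of_comp_finiteType
    (C : R →+* MvPolynomial (Fin d) R) hfp (RingHom.finiteType_algebraMap.mpr inferInstance)
  let v : Spec Γ(X, U) ⟶ Spec (CommRingCat.of (MvPolynomial (Fin d) R)) := Spec.map (CommRingCat.ofHom ψ)
  haveI : LocallyOfFinitePresentation v := HasRingHomProperty.Spec_iff.mpr hψfp
  haveI : LocallyQuasiFinite v := HasRingHomProperty.Spec_iff.mpr hqf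
  have hgR : (v ≫ UOpenLib.polyProj R d) ≫ hV.fromSpec = hU.fromSpec ≫ f := by
    rw [← IsAffineOpen.SpecMap_appLE_fromSpec f hV hU e, ← Spec.map_comp]
    congr 2
    exact CommRingCat.hom_ext hψ
  have hopenz : EGA43.IsUnivOpenAt (v ≫ UOpenLib.polyProj R d) qz := by
    have h1 : EGA43.IsUnivOpenAt (hU.fromSpec ≫ f) qz :=
      UOpenLib.IsUnivOpenAt.comp (UOpenLib.isUnivOpenAt_of_universallyOpen' _ _)
        ((hU.fromSpec_primeIdealOf ⟨z, hzU⟩).symm ▸ hopen)
    have sq : IsPullback (𝟙 _) (v ≫ UOpenLib.polyProj R d) (hU.fromSpec ≫ f) hV.fromSpec := by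
      refine ⟨⟨by rw [Category.id_comp, hgR]⟩, ⟨PullbackCone.IsLimit.mk _ (fun s ↦ s.fst)
        (fun s ↦ Category.comp_id _) (fun s ↦ ?_) fun s m h1 _ ↦ (Category.comp_id m).symm.trans h1⟩⟩
      refine (cancel_mono hV.fromSpec).mp ?_
      exact ((Category.assoc s.fst _ hV.fromSpec).trans (congrArg (fun m ↦ s.fst ≫ m) hgR)).trans
        s.condition
    exact UOpenLib.IsUnivOpenAt.of_isPullback h1 sq qz rfl
  have hopenx : EGA43.IsUnivOpenAt v qx := UOpenLib.isUnivOpenAt_polyChart ψ hfp hqf qx qz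
    ((UOpenLib.primeIdealOf_le_iff hU hzU hxU).mpr hzx) p hxp hgen hopenz
  let σ : Spec R ⟶ Spec (CommRingCat.of (MvPolynomial (Fin d) R)) := Spec.map (CommRingCat.ofHom (ev0 R d))
  haveI : IsClosedImmersion σ := IsClosedImmersion.spec_of_surjective _ (ev0_surjective R d)
  have hσ : σ ≫ UOpenLib.polyProj R d = 𝟙 _ := by
    rw [← Spec.map_comp, ← Spec.map_id]
    congr 1
    exact CommRingCat.hom_ext (ev0_comp_C R d)
  have hpt : v.base qx = σ.base p := by
    refine PrimeSpectrum.ext (Ideal.ext fun P => ?_)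
    show P ∈ qx.asIdeal.comap ψ ↔ ev0 R d P ∈ p.asIdeal
    rw [mem_iff_ev0 (fun i => hX i), Ideal.mem_comap, ← hxp]
    rfl
  obtain ⟨t, ht1, ht2⟩ := Scheme.Pullback.exists_preimage_pullback (f := v) (g := σ) qx p hpt
  haveI : LocallyOfFinitePresentation (pullback.snd v σ) := MorphismProperty.pullback_snd _ _ inferInstance
  haveI : LocallyQuasiFinite (pullback.snd v σ) := MorphismProperty.pullback_snd _ _ inferInstance
  haveI : IsClosedImmersion (pullback.fst v σ) := MorphismProperty.pullback_fst _ _ inferInstance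
  let τ := pullback.snd v σ ≫ hV.fromSpec
  have hτ : (pullback.fst v σ ≫ hU.fromSpec) ≫ f = τ := by
    rw [Category.assoc, ← hgR, Category.assoc, pullback.condition_assoc, reassoc_of% hσ]
  have hτt : τ.base t = f.base x := by
    rw [Scheme.Hom.comp_apply, ht2]
    exact hV.fromSpec_primeIdealOf ⟨f.base x, hxV⟩
  have hτopen : EGA43.IsUnivOpenAt τ t :=
    UOpenLib.IsUnivOpenAt.comp
      (UOpenLib.IsUnivOpenAt.of_isPullback hopenx (IsPullback.of_hasPullback v σ) t ht1)
      (UOpenLib.isUnivOpenAt_of_universallyOpen' _ _)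
  obtain ⟨S', S'', hS', w, π, j, hw, hπ1, hπ2, hπ3, hj, s'', hs, hjs, hjr⟩ :=
    exists_finite_surj_nbhd τ t (τ.quasiFiniteAt t) hτopen
  refine ⟨S', S'', hS', w, π, j ≫ pullback.fst v σ ≫ hU.fromSpec, hw, hπ1, hπ2, hπ3,
    by rw [Category.assoc, hτ, hj], s'', hτt ▸ hs, ?_, ?_⟩
  · rw [Scheme.Hom.comp_apply, Scheme.Hom.comp_apply, hjs, ht1]
    exact hU.fromSpec_primeIdealOf ⟨x, hxU⟩
  · rw [Scheme.residueFieldMap_comp, Scheme.residueFieldMap_comp]
    exact @IsIso.comp_isIso _ _ _ _ _ _ _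
      (@IsIso.comp_isIso _ _ _ _ _ _ _ (isIso_residueFieldMap' _ _) (isIso_residueFieldMap _ _)) hjr

end Groth.Agent.QuasiSec
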