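import Mathlib
import Groth.Agent.NeutralSchLib.Homog
import Groth.Agent.HomogDenseLib.Max

/-!
# Translating a finite set of points of a homogeneous space into a dense open subset
-/

set_option autoImplicit false
set_option backward.isDefEq.respectTransparency false

noncomputable section

universe u

open CategoryTheory CategoryTheory.Limits MonoidalCategory CartesianMonoidalCategory AlgebraicGeometry Topology
open scoped MonObj
open Groth.Agent.HomogDense Groth.Agent.GrpField

namespace Groth.Agent.QuasiSec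

variable {k : Type u} [Field k]

/-- Slices of a product over a field at closed points are finite over the other factor. -/
theorem exists_slice {A B P : Scheme.{u}} {fA : A ⟶ Spec (CommRingCat.of k)} {fB : B ⟶ Spec (CommRingCat.of k)}
    [LocallyOfFiniteType fB] {p₁ : P ⟶ A} {p₂ : P ⟶ B} (sq : IsPullback p₁ p₂ fA fB) {b : B} (hb : IsClosed {b}) :
    ∃ (Q : Scheme.{u}) (m : Q ⟶ P), IsClosedImmersion m ∧ Set.range m.base = p₂.base ⁻¹' {b} ∧ IsFinite (m ≫ p₁) := by
  haveI := isClosed_singleton_iff_isClosedImmersion.mp hb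
  haveI : IsFinite (B.fromSpecResidueField b ≫ fB) := isFinite_iff_locallyOfFiniteType_of_jacobsonSpace.mpr inferInstance
  refine ⟨pullback p₂ (B.fromSpecResidueField b), pullback.fst _ _,
    MorphismProperty.pullback_fst _ _ inferInstance, ?_, ?_⟩
  · rw [Scheme.Pullback.range_fst, Scheme.range_fromSpecResidueField]
  · have h := (IsPullback.of_hasPullback p₂ (B.fromSpecResidueField b)).flip.paste_vert sq.flip
    exact MorphismProperty.of_isPullback h inferInstance

theorem isClosed_image_slice {A B P : Scheme.{u}} {fA : A ⟶ Spec (CommRingCat.of k)} {fB : B ⟶ Spec (CommRingCat.of k)}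
    [LocallyOfFiniteType fB] {p₁ : P ⟶ A} {p₂ : P ⟶ B} (sq : IsPullback p₁ p₂ fA fB) {b : B} (hb : IsClosed {b})
    {C : Set P} (hC : IsClosed C) : IsClosed (p₁.base '' (p₂.base ⁻¹' {b} ∩ C)) := by
  obtain ⟨Q, m, _, hm, hfin⟩ := exists_slice sq hb
  haveI := hfin
  rw [← hm, Set.inter_comm, ← Set.image_preimage_eq_inter_range, ← Set.image_comp]
  exact (m ≫ p₁).isClosedMap _ (hC.preimage m.continuous)

theorem eq_of_specializes_slice {A B P : Scheme.{u}} {fA : A ⟶ Spec (CommRingCat.of k)} {fB : B ⟶ Spec (CommRingCat.of k)}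
    [LocallyOfFiniteType fB] {p₁ : P ⟶ A} {p₂ : P ⟶ B} (sq : IsPullback p₁ p₂ fA fB) {b : B} (hb : IsClosed {b})
    {z z' : P} (hz : p₂.base z = b) (hz' : p₂.base z' = b) (h : z ⤳ z') (he : p₁.base z = p₁.base z') : z = z' := by
  obtain ⟨Q, m, hmc, hm, hfin⟩ := exists_slice sq hb
  haveI := hfin
  haveI := hmc
  obtain ⟨w, rfl⟩ := hm.ge hz
  obtain ⟨w', rfl⟩ := hm.ge hz'
  have hw : w ⤳ w' := m.isClosedEmbedding.isInducing.specializes_iff.mp h
  have hd := (m ≫ p₁).isDiscrete_preimage_singleton ((m ≫ p₁).base w')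
  rw [isDiscrete_iff_discreteTopology] at hd
  have hmem : (m ≫ p₁).base w = (m ≫ p₁).base w' := by
    rw [Scheme.Hom.comp_apply, Scheme.Hom.comp_apply]; exact he
  have : (⟨w, hmem⟩ : ↥((m ≫ p₁).base ⁻¹' {(m ≫ p₁).base w'})) ⤳ ⟨w', rfl⟩ :=
    IsInducing.subtypeVal.specializes_iff.mp hw
  exact congrArg (fun v => m.base v.1) this.eq

variable {G X : Over (Spec (CommRingCat.of k))} [GrpObj G] (a : AlgGrp.Action G X)

theorem isPullback_fst_snd (G X : Over (Spec (CommRingCat.of k))) :
    IsPullback (fst G X).left (snd G X).left G.hom X.hom := IsPullback.of_hasPullback G.hom X.hom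

/-- The generic translate of a closed point is a maximal point. -/
theorem isMax_act [LocallyOfFiniteType X.hom] (hΦ : Surjective (lift a.act (snd G X)).left) {z : ↥(G ⊗ X).left}
    (hx : IsClosed {(snd G X).left.base z}) (hg : IsMaxPt ((fst G X).left.base z))
    (hge : (fst G X).left.base z ⤳ unitPt G) : IsMaxPt (a.act.left.base z) := by
  obtain ⟨T, p, hT, hp⟩ := exists_geomPointAt ((snd G X).left.base z)
  obtain ⟨q⟩ := hT.fieldPt.nonempty
  obtain ⟨θ, hθ, hθ'⟩ := GrpField.exists_top (G := G) hT.fieldPt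
  obtain ⟨w, hw, -⟩ := Scheme.exists_preimage_of_isPullback (FinHom.isPullback_whiskerLeft G p) z q (hp q).symm
  have hfst : ∀ v, (fst G T).left.base v = (fst G X).left.base ((G ◁ p).left.base v) := fun v => by
    rw [← Scheme.Hom.comp_apply, ← Over.comp_left, whiskerLeft_fst]
  have hsnd : ∀ v, (snd G X).left.base ((G ◁ p).left.base v) = (snd G X).left.base z := fun v => by
    rw [← Scheme.Hom.comp_apply, ← Over.comp_left, whiskerLeft_snd, Over.comp_left, Scheme.Hom.comp_apply, hp]
  have hθw : θ ⤳ w := (hθ' w).1 (by rw [hfst, hw]; exact ⟨_, hg, hge, specializes_rfl⟩)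
  have hθz : (G ◁ p).left.base θ = z := by
    refine eq_of_specializes_slice (isPullback_fst_snd G X) hx (hsnd θ) rfl
      (hw ▸ hθw.map (G ◁ p).left.continuous) ?_
    refine hg _ ?_
    rw [← hfst, ← hw, ← hfst]
    exact hθw.map (fst G T).left.continuous
  obtain ⟨hm, -⟩ := isMax_orb a hΦ hT p q hθ ((hθ' _).1 (fst_unit_sec (G := G) q ▸ unitPt_mem_Z0 G))
  haveI := flat_fst (X := X) T
  have h := isMax_map (fst X T).left hm
  rwa [← Scheme.Hom.comp_apply, ← Over.comp_left, orb_eq, lift_fst, Over.comp_left, Scheme.Hom.comp_apply, hθz] at h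

/-- A closed point of the neutral component translating given points into a dense open subset. -/
theorem exists_closed_translate [LocallyOfFiniteType G.hom] [LocallyOfFiniteType X.hom]
    (hΦ : Surjective (lift a.act (snd G X)).left) {U : Set X.left} (hU : IsOpen U) (hd : Dense U)
    {A : Set X.left} (hA : A.Finite) :
    ∃ g : G.left, IsClosed {g} ∧ g ∈ Z0 G ∧
      ∀ z : ↥(G ⊗ X).left, (fst G X).left.base z = g → (snd G X).left.base z ∈ A → a.act.left.base z ∈ U := by
  haveI : JacobsonSpace ↥X.left := LocallyOfFiniteType.jacobsonSpace X.hom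
  haveI : JacobsonSpace ↥G.left := LocallyOfFiniteType.jacobsonSpace G.hom
  haveI : IsLocallyNoetherian X.left := LocallyOfFiniteType.isLocallyNoetherian X.hom
  have hcl : ∀ x : X.left, ∃ x', x ⤳ x' ∧ IsClosed {x'} := fun x => by
    obtain ⟨x', hx', hx'c⟩ := nonempty_inter_closedPoints (Z := closure {x})
      ⟨x, subset_closure rfl⟩ isClosed_closure.isLocallyClosed
    exact ⟨x', specializes_iff_mem_closure.2 hx', hx'c⟩
  choose c hc hcc using hcl
  obtain ⟨ξ, hξ, hξe, hZ⟩ := exists_Z0_gen G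
  let N : Set G.left := ⋃ x ∈ A, (fst G X).left.base '' ((snd G X).left.base ⁻¹' {c x} ∩ a.act.left.base ⁻¹' Uᶜ)
  have hNc : IsClosed N := hA.isClosed_biUnion fun x _ =>
    isClosed_image_slice (isPullback_fst_snd G X) (hcc x) (hU.isClosed_compl.preimage a.act.left.continuous)
  have hξN : ξ ∉ N := by
    simp only [N, Set.mem_iUnion, not_exists]
    rintro x - ⟨z, ⟨hz1, hz2⟩, hz3⟩
    exact hz2 (isMax_mem_of_dense hU hd (isMax_act a hΦ ((Set.mem_singleton_iff.mp hz1).symm ▸ hcc x) (show IsMaxPt ((fst G X).left.base z) by rw [show (fst G X).left.base z = ξ from hz3]; exact hξ) (show (fst G X).left.base z ⤳ unitPt G by rw [show (fst G X).left.base z = ξ from hz3]; exact hξe)))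
  obtain ⟨g, ⟨hgZ, hgN⟩, hgc⟩ := nonempty_inter_closedPoints (Z := Z0 G ∩ Nᶜ)
    ⟨ξ, hZ.ge (subset_closure rfl), hξN⟩
    ((hZ ▸ isClosed_closure : IsClosed (Z0 G)).isLocallyClosed.inter hNc.isOpen_compl.isLocallyClosed)
  refine ⟨g, hgc, hgZ, fun z hzg hzA => ?_⟩
  by_contra hzU
  have hD := isClosed_image_slice (isPullback_fst_snd G X).flip hgc (hU.isClosed_compl.preimage a.act.left.continuous)
  obtain ⟨z', ⟨hz1, hz2⟩, hz3⟩ := (hc _).mem_closed hD ⟨z, ⟨hzg, hzU⟩, rfl⟩
  refine hgN ?_
  simp only [N, Set.mem_iUnion]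
  exact ⟨_, hzA, z', ⟨hz3, hz2⟩, hz1⟩

end Groth.Agent.QuasiSec
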