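import Mathlib
import Groth.Agent.GrpFieldLib.Comps
import Groth.Agent.FibDimLib.Apps
import Groth.Agent.FibDimLib.SchemeInv
import Groth.Agent.UOpenLib.FibreDim

/-!
# Homogeneous spaces over a field are equidimensional
-/

set_option autoImplicit false
set_option backward.isDefEq.respectTransparency false

noncomputable section

universe u

open CategoryTheory CategoryTheory.Limits MonoidalCategory CartesianMonoidalCategory AlgebraicGeometry Topology
open scoped MonObj
open Groth.Agent.HomogDense Groth.Agent.GrpField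

namespace Groth.Agent.HomogDim

variable {k : Type u} [Field k] {G X : Over (Spec (CommRingCat.of k))} [GrpObj G] (a : AlgGrp.Action G X)

theorem fibreDimAt_eq_closure [LocallyOfFiniteType X.hom] (hΦ : Surjective (lift a.act (snd G X)).left)
    {x ξ : X.left} (hξ : IsMaxPt ξ) (hξx : ξ ⤳ x) :
    FlatMor.fibreDimAt X.hom x = topologicalKrullDim ↥(closure ({ξ} : Set X.left)) := by
  haveI : Subsingleton ↥(Spec (CommRingCat.of k)) := inferInstanceAs (Subsingleton (PrimeSpectrum k))
  obtain ⟨x₀, -, hx₀, hm, hd⟩ := UOpenLib.exists_max_fibreDimAt X.hom x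
  have hmax : IsMaxPt x₀ := fun z hz => hm z (Subsingleton.elim _ _) (specializes_iff_mem_closure.1 hz)
  obtain rfl : x₀ = ξ := uniqAt a hΦ x x₀ ξ hmax hξ hx₀ hξx
  rw [← hd, UOpenLib.fibreClosureDim_eq_inter,
    show X.hom.base ⁻¹' {X.hom.base x₀} = Set.univ from Set.eq_univ_of_forall fun _ => Subsingleton.elim _ _,
    Set.inter_univ]

theorem fibreDimAt_of_specializes [LocallyOfFiniteType X.hom] (hΦ : Surjective (lift a.act (snd G X)).left)
    {x x' : X.left} (h : x ⤳ x') : FlatMor.fibreDimAt X.hom x = FlatMor.fibreDimAt X.hom x' := by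
  obtain ⟨ξ, hξ, hξx⟩ := exists_isMax_specializes x
  rw [fibreDimAt_eq_closure a hΦ hξ hξx, fibreDimAt_eq_closure a hΦ hξ (hξx.trans h)]

theorem fibreDimAt_closed [LocallyOfFiniteType X.hom] [LocallyOfFiniteType G.hom]
    (hΦ : Surjective (lift a.act (snd G X)).left) {x y : X.left} (hx : IsClosed {x}) (hy : IsClosed {y}) :
    FlatMor.fibreDimAt X.hom x = FlatMor.fibreDimAt X.hom y := by
  let K := AlgebraicClosure k
  let t : Spec (CommRingCat.of K) ⟶ Spec (CommRingCat.of k) :=
    Spec.map (CommRingCat.ofHom (algebraMap k K))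
  let T := Over.mk t
  let q : ↥T.left := (IsLocalRing.closedPoint K : PrimeSpectrum K)
  haveI : Subsingleton ↥T.left := inferInstanceAs (Subsingleton (PrimeSpectrum K))
  have hlftX : LocallyOfFiniteType (snd X T).left := MorphismProperty.pullback_snd _ _ inferInstance
  have hlftG : LocallyOfFiniteType (snd G T).left := MorphismProperty.pullback_snd _ _ inferInstance
  haveI : JacobsonSpace ↥(X ⊗ T).left := @LocallyOfFiniteType.jacobsonSpace _ _ (snd X T).left hlftX _
  haveI : JacobsonSpace ↥(G ⊗ T).left := @LocallyOfFiniteType.jacobsonSpace _ _ (snd G T).left hlftG _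
  have point : ∀ {Z : Over (Spec (CommRingCat.of k))} (hlft : LocallyOfFiniteType (snd Z T).left)
      (z : ↥(Z ⊗ T).left), IsClosed {z} → ∃ p : T ⟶ Z, (lift p (𝟙 T)).left.base q = z := fun {Z} hlft z hz => by
    haveI := hlft
    let σ : Spec (CommRingCat.of K) ⟶ (Z ⊗ T).left := pointOfClosedPoint (snd Z T).left z hz
    have hσ : σ ≫ (snd Z T).left = 𝟙 _ := pointOfClosedPoint_comp _ _ _
    let P : T ⟶ Z ⊗ T := Over.homMk σ (by
      rw [← Over.w (snd Z T), ← Category.assoc, hσ]; exact Category.id_comp _)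
    have e : lift (P ≫ fst Z T) (𝟙 T) = P := by
      have : P ≫ snd Z T = 𝟙 T := Over.OverMorphism.ext hσ
      rw [← this, ← comp_lift, lift_fst_snd, Category.comp_id]
    exact ⟨P ≫ fst Z T, by rw [e]; exact pointOfClosedPoint_apply _ _ _ _⟩
  have hlift : ∀ z : X.left, IsClosed {z} → ∃ p : T ⟶ X, p.left.base q = z ∧
      IsClosed {(lift p (𝟙 T)).left.base q} := fun z hz => by
    haveI : Surjective (fst X T).left := surjective_fst (fieldPt_mk t)
    obtain ⟨w, hw⟩ := (fst X T).left.surjective z
    obtain ⟨w', hw', hw'c⟩ := nonempty_inter_closedPoints (Z := (fst X T).left.base ⁻¹' {z}) ⟨w, hw⟩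
      (hz.preimage (fst X T).left.continuous).isLocallyClosed
    obtain ⟨p, hp⟩ := point hlftX w' hw'c
    refine ⟨p, ?_, hp.symm ▸ hw'c⟩
    rw [← show (lift p (𝟙 T) ≫ fst X T) = p from lift_fst _ _, Over.comp_left, Scheme.Hom.comp_apply, hp]
    exact hw'
  obtain ⟨p, hp, -⟩ := hlift x hx
  obtain ⟨r, hr, hrc⟩ := hlift y hy
  obtain ⟨w, hw⟩ := orbit_surjective a hΦ p ((lift r (𝟙 T)).left.base q)
  rw [← orb_eq] at hw
  obtain ⟨w', hw', hw'c⟩ := nonempty_inter_closedPoints
    (Z := (orb a p).left.base ⁻¹' {(lift r (𝟙 T)).left.base q}) ⟨w, hw⟩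
    (hrc.preimage (orb a p).left.continuous).isLocallyClosed
  obtain ⟨c, hc⟩ := point hlftG w' hw'c
  have hmap : (transl a c).hom.left.base ((lift p (𝟙 T)).left.base q) = (lift r (𝟙 T)).left.base q := by
    rw [← Scheme.Hom.comp_apply, ← Over.comp_left, sec_transl, ← sec_orb, Over.comp_left,
      Scheme.Hom.comp_apply, hc]
    exact hw'
  haveI : LocallyOfFiniteType (snd X T).left := hlftX
  have hbc : ∀ v, FlatMor.fibreDimAt (snd X T).left v = FlatMor.fibreDimAt X.hom ((fst X T).left.base v) :=
    fun v => FibDimLib.fibreDimAt_baseChange (IsPullback.of_hasPullback X.hom T.hom) v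
  have hiso : (transl a c).hom.left ≫ (snd X T).left = (snd X T).left := by
    rw [← Over.comp_left]; congr 1; simp [transl]
  haveI : IsIso (transl a c).hom.left := ((Over.forget _).mapIso (transl a c)).isIso_hom
  have key := FibDimLib.fibreDimAt_comp_isOpenImmersion (transl a c).hom.left (snd X T).left
    ((lift p (𝟙 T)).left.base q)
  rw [hiso, hmap, hbc, hbc, ← Scheme.Hom.comp_apply, ← Over.comp_left, lift_fst, hp, ← Scheme.Hom.comp_apply,
    ← Over.comp_left, lift_fst, hr] at key
  exact key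

theorem krullDim_connectedComponent_eq [LocallyOfFiniteType X.hom] [LocallyOfFiniteType G.hom]
    (hΦ : Surjective (lift a.act (snd G X)).left) (x y : X.left) :
    topologicalKrullDim ↥(connectedComponent x) = topologicalKrullDim ↥(connectedComponent y) := by
  haveI : JacobsonSpace ↥X.left := LocallyOfFiniteType.jacobsonSpace X.hom
  haveI : IsLocallyNoetherian X.left := LocallyOfFiniteType.isLocallyNoetherian X.hom
  obtain ⟨ξ, hξ, hξx⟩ := exists_isMax_specializes x
  obtain ⟨ζ, hζ, hζy⟩ := exists_isMax_specializes y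
  rw [connectedComponent_eq_closure a hΦ hξ hξx, connectedComponent_eq_closure a hΦ hζ hζy,
    ← fibreDimAt_eq_closure a hΦ hξ hξx, ← fibreDimAt_eq_closure a hΦ hζ hζy]
  obtain ⟨x', hx', hx'c⟩ := nonempty_inter_closedPoints (Z := closure {x})
    ⟨x, subset_closure rfl⟩ isClosed_closure.isLocallyClosed
  obtain ⟨y', hy', hy'c⟩ := nonempty_inter_closedPoints (Z := closure {y})
    ⟨y, subset_closure rfl⟩ isClosed_closure.isLocallyClosed
  rw [fibreDimAt_of_specializes a hΦ (specializes_iff_mem_closure.2 hx'),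
    fibreDimAt_of_specializes a hΦ (specializes_iff_mem_closure.2 hy')]
  exact fibreDimAt_closed a hΦ hx'c hy'c

end Groth.Agent.HomogDim
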