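import Mathlib
import Groth.Agent.QuasiSecLib.Field
import Groth.Agent.QuasiSecLib.Point

/-!
# Quasi-sections translating a finite set into an open subset
-/

set_option autoImplicit false
set_option backward.isDefEq.respectTransparency false

noncomputable section

universe u

open CategoryTheory CategoryTheory.Limits MonoidalCategory CartesianMonoidalCategory AlgebraicGeometry Topology
open scoped MonObj
open Groth.Agent.HomogDense Groth.Agent.GrpField Groth.Agent.NeutralSch

namespace Groth.Agent.QuasiSec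

variable {S : Scheme.{u}} {G X : Over S} [GrpObj G] (a : AlgGrp.Action G X)

/-- Points of `G × X` over `s` come from the fibre, compatibly with the action. -/
theorem exists_fibre_preimage (s : S) {v : ↥(G ⊗ X).left} (hv : (G ⊗ X).hom.base v = s) :
    ∃ z : ↥(Red.bc (S.fromSpecResidueField s) G ⊗ Red.bc (S.fromSpecResidueField s) X).left,
      (pullback.fst G.hom (S.fromSpecResidueField s)).base ((fst _ _ : Red.bc (S.fromSpecResidueField s) G ⊗ Red.bc (S.fromSpecResidueField s) X ⟶ _).left.base z) = (fst G X).left.base v ∧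
      (pullback.fst X.hom (S.fromSpecResidueField s)).base ((snd _ _ : Red.bc (S.fromSpecResidueField s) G ⊗ Red.bc (S.fromSpecResidueField s) X ⟶ _).left.base z) = (snd G X).left.base v ∧
      (pullback.fst X.hom (S.fromSpecResidueField s)).base ((actBC (S.fromSpecResidueField s) a).act.left.base z) = a.act.left.base v := by
  let f := S.fromSpecResidueField s
  let F := Over.pullback f
  have hnat : ∀ {A B : Over S} (m : A ⟶ B), (F.map m).left ≫ pullback.fst B.hom f = pullback.fst A.hom f ≫ m.left :=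
    fun {A B} m => by simp [F]
  obtain ⟨w, hw⟩ : ∃ w : ↥(pullback (G ⊗ X).hom f), (pullback.fst (G ⊗ X).hom f).base w = v :=
    ((G ⊗ X).hom.range_fiberι s).ge hv
  let μI := Functor.Monoidal.μIso F G X
  refine ⟨μI.inv.left.base w, ?_, ?_, ?_⟩
  · have e : μI.inv.left ≫ (fst (Red.bc f G) (Red.bc f X)).left ≫ pullback.fst G.hom f =
        pullback.fst (G ⊗ X).hom f ≫ (fst G X).left := by
      rw [← hnat (fst G X), ← Category.assoc, ← Over.comp_left]
      congr 2
      rw [Iso.inv_comp_eq]
      exact (Functor.Monoidal.μ_fst F G X).symm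
    exact (congrArg (fun m => m.base w) e).trans ((Scheme.Hom.comp_apply _ _ w).trans (congrArg _ hw))
  · have e : μI.inv.left ≫ (snd (Red.bc f G) (Red.bc f X)).left ≫ pullback.fst X.hom f =
        pullback.fst (G ⊗ X).hom f ≫ (snd G X).left := by
      rw [← hnat (snd G X), ← Category.assoc, ← Over.comp_left]
      congr 2
      rw [Iso.inv_comp_eq]
      exact (Functor.Monoidal.μ_snd F G X).symm
    exact (congrArg (fun m => m.base w) e).trans ((Scheme.Hom.comp_apply _ _ w).trans (congrArg _ hw))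
  · have e : μI.inv.left ≫ (actBC f a).act.left ≫ pullback.fst X.hom f =
        pullback.fst (G ⊗ X).hom f ≫ a.act.left := by
      rw [← hnat a.act, ← Category.assoc, ← Over.comp_left]
      congr 2
      rw [Iso.inv_comp_eq]
      rfl
    exact (congrArg (fun m => m.base w) e).trans ((Scheme.Hom.comp_apply _ _ w).trans (congrArg _ hw))

/-- Quasi-sections translating a finite subset of a fibre into an open subset dense in it. -/
theorem exists_translating [LocallyOfFinitePresentation G.hom] {W : G.left.Opens} (hu : ∀ t, us G t ∈ W)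
    [UniversallyOpen (W.ι ≫ G.hom)] (hΦ : Surjective (lift a.act (snd G X)).left) (U : X.left.Opens) (s : S)
    (hft : LocallyOfFiniteType (X.hom.fiberToSpecResidueField s))
    (hdense : X.hom.base ⁻¹' {s} ⊆ closure ((U : Set X.left) ∩ X.hom.base ⁻¹' {s}))
    (A : Set X.left) (hA : A.Finite) (hAs : A ⊆ X.hom.base ⁻¹' {s}) :
    ∃ (S' S'' : Scheme.{u}) (w : S' ⟶ S) (π : S'' ⟶ S') (h : Over.mk (π ≫ w) ⟶ G),
      Etale w ∧ IsFinite π ∧ Surjective π ∧ (∃ s₀ : S'', (π ≫ w).base ⁻¹' {s} = {s₀}) ∧
      ∀ z : ↥(X ⊗ Over.mk (π ≫ w)).left, (fst X (Over.mk (π ≫ w))).left.base z ∈ A →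
        (lift (snd X (Over.mk (π ≫ w)) ≫ h) (fst X (Over.mk (π ≫ w))) ≫ a.act).left.base z ∈ U := by
  let ι₀ := S.fromSpecResidueField s
  let Gs := Red.bc ι₀ G
  let Xs := Red.bc ι₀ X
  let pG : Gs.left ⟶ G.left := pullback.fst G.hom ι₀
  let pX : Xs.left ⟶ X.left := pullback.fst X.hom ι₀
  haveI : LocallyOfFiniteType Xs.hom := hft
  haveI : LocallyOfFiniteType Gs.hom := inferInstanceAs (LocallyOfFiniteType (pullback.snd G.hom ι₀))
  have hrG : Set.range pG.base = G.hom.base ⁻¹' {s} := G.hom.range_fiberι s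
  have hrX : Set.range pX.base = X.hom.base ⁻¹' {s} := X.hom.range_fiberι s
  have hpX : IsEmbedding pX.base := (X.hom.fiberι s).isEmbedding
  have hpG : IsEmbedding pG.base := (G.hom.fiberι s).isEmbedding
  have hd : Dense (pX.base ⁻¹' (U : Set X.left)) := fun x => by
    rw [hpX.isInducing.closure_eq_preimage_closure_image, Set.image_preimage_eq_inter_range, hrX]
    exact hdense (hrX.le ⟨x, rfl⟩)
  obtain ⟨g₀, hg₀c, hg₀Z, hg₀⟩ := exists_closed_translate (actBC ι₀ a) (surjective_shear_bc ι₀ a hΦ)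
    (U.2.preimage pX.continuous) hd (hA.preimage hpX.injective.injOn)
  obtain ⟨ξ, hξ, hξe, hZ⟩ := exists_Z0_gen Gs
  have hgs : G.hom.base (pG.base g₀) = s := hrG.le ⟨g₀, rfl⟩
  have hξs : G.hom.base (pG.base ξ) = s := hrG.le ⟨ξ, rfl⟩
  have hcomp : SecCompLib.comp G.hom (us G) s = pG.base '' closure {ξ} := by
    rw [← hZ]; exact (image_Z0 G s).symm
  have hξn : pG.base ξ ∈ SGA3x.neutralSet G :=
    ((neutralSet_inter_fibre G s).ge (hcomp.ge ⟨ξ, subset_closure rfl, rfl⟩)).1
  obtain ⟨S', S'', -, w, π, h, hw, hπ1, hπ2, -, hh, s'', hs, hhs, -⟩ :=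
    exists_quasiSection G.hom (pG.base g₀) (pG.base ξ)
      (fun x' hx' hsp => by
        obtain ⟨y, rfl⟩ := hrG.ge (hx'.trans hgs)
        have := (hpG.isInducing.specializes_iff.mp hsp).mem_closed hg₀c rfl
        rw [Set.mem_singleton_iff.mp this])
      ((specializes_iff_mem_closure.2 (hZ.le hg₀Z)).map pG.continuous) (hξs.trans hgs.symm)
      (isUnivOpenAt_neutral hu hξn)
      (le_of_eq (by
        rw [fibreDimAt_eq_comp_dim, hgs, UOpenLib.fibreClosureDim_eq_inter, hξs, hcomp,
          ← hrG, hpG.isInducing.closure_eq_preimage_closure_image, Set.image_singleton,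
          Set.image_preimage_eq_inter_range]))
  refine ⟨S', S'', w, π, Over.homMk h hh, hw, hπ1, hπ2, ⟨s'', hgs ▸ hs⟩, fun z hz => ?_⟩
  let L : X ⊗ Over.mk (π ≫ w) ⟶ G ⊗ X :=
    lift (snd X (Over.mk (π ≫ w)) ≫ Over.homMk h hh) (fst X (Over.mk (π ≫ w)))
  have hLsnd : (snd G X).left.base (L.left.base z) = (fst X (Over.mk (π ≫ w))).left.base z := by
    rw [← Scheme.Hom.comp_apply, ← Over.comp_left, lift_snd]
  have hzs : (X ⊗ Over.mk (π ≫ w)).hom.base z = s := by
    rw [← Over.w (fst X (Over.mk (π ≫ w))), Scheme.Hom.comp_apply]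
    exact hAs hz
  have hz2 : (snd X (Over.mk (π ≫ w))).left.base z = s'' := by
    have : (snd X (Over.mk (π ≫ w))).left.base z ∈ (π ≫ w).base ⁻¹' {G.hom.base (pG.base g₀)} := by
      rw [Set.mem_preimage, Set.mem_singleton_iff, hgs, ← hzs, ← Over.w (snd X (Over.mk (π ≫ w))),
        Scheme.Hom.comp_apply]
      rfl
    rwa [hs] at this
  have hLfst : (fst G X).left.base (L.left.base z) = pG.base g₀ := by
    rw [← Scheme.Hom.comp_apply, ← Over.comp_left, lift_fst, Over.comp_left, Scheme.Hom.comp_apply, hz2]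
    exact hhs
  obtain ⟨z', h1, h2, h3⟩ := exists_fibre_preimage a s (v := L.left.base z) (by
    rw [← Over.w (fst G X), Scheme.Hom.comp_apply, hLfst, hgs])
  rw [Over.comp_left, Scheme.Hom.comp_apply, ← h3]
  refine hg₀ z' (hpG.injective (h1.trans hLfst)) ?_
  exact Eq.subst (motive := fun p => p ∈ A) (h2.trans hLsnd).symm hz

end Groth.Agent.QuasiSec
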